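import Mathlib.RingTheory.Polynomial.Cyclotomic.Eval
import Mathlib.RingTheory.Polynomial.Cyclotomic.Expand
import Mathlib.Algebra.Algebra.Subalgebra.Basic
import Mathlib.RingTheory.Adjoin.Basic

/-!
Serre's lemma in commutative torsion-free rings without divisible elements: a root of unity congruent to one
modulo `n` is one, or a sign when `n = 2`.
-/

set_option autoImplicit false

open Polynomial

namespace Groth.Agent.AutFinOrd

variable {S : Type*} [CommRing S]

/-- No nonzero element is divisible by a prime up to a factor. -/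
def NoDiv (S : Type*) [CommRing S] : Prop := ∀ (q : ℕ) (f h : S), q.Prime → f = (q : S) * (f * h) → f = 0

/-- No torsion. -/
def NoTor (S : Type*) [CommRing S] : Prop := ∀ (m : ℕ) (x : S), m ≠ 0 → (m : S) * x = 0 → x = 0

theorem eq_zero_of_dvd {n : ℕ} (hD : NoDiv S) {q : ℕ} (hq : q.Prime) (hqn : q ∣ n) {f h : S}
    (h1 : f = (n : S) * (f * h)) : f = 0 := by
  obtain ⟨r, rfl⟩ := hqn
  refine hD q f (r * h) hq ?_
  rw [Nat.cast_mul] at h1
  linear_combination h1

theorem eq_zero_of_prime_dvd_two {n p : ℕ} (hT : NoTor S) (hD : NoDiv S) (hn : 2 ≤ n) (hp : p.Prime) {f g : S}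
    (hF : f * ∑ i ∈ Finset.range p, (1 + (n : S) * g) ^ i = 0) (h22 : 3 ≤ p ∨ 3 ≤ n) : f = 0 := by
  by_cases hall : ∀ q : ℕ, q.Prime → q ∣ n → q = p
  · obtain ⟨q, hq, hqn⟩ := Nat.exists_prime_and_dvd (n := n) (by omega)
    obtain rfl := hall q hq hqn
    obtain ⟨m, rfl⟩ := hqn
    rcases hp.eq_two_or_odd with rfl | hodd
    · have hm : 2 ≤ m := by omega
      have hm2 : 2 ∣ m := by
        obtain ⟨r, hr, hrm⟩ := Nat.exists_prime_and_dvd (n := m) (by omega)
        obtain rfl := hall r hr (hrm.mul_left 2)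
        exact hrm
      obtain ⟨r, rfl⟩ := hm2
      refine hD 2 f (-((r : S) * g)) Nat.prime_two (sub_eq_zero.1 (hT 2 _ two_ne_zero ?_))
      simp only [Finset.sum_range_succ, Finset.sum_range_zero] at hF
      push_cast at hF ⊢
      linear_combination hF
    · obtain ⟨c, hc⟩ : ∃ c : S, ∑ i ∈ Finset.range q, (1 + ((q * m : ℕ) : S) * g) ^ i =
          (q : S) * (1 + (q : S) * c) := by
        have hdvd : ∀ i : ℕ, ∃ c : S, (1 + ((q * m : ℕ) : S) * g) ^ i =
            1 + (i : S) * ((q : S) * ((m : S) * g)) + (q : S) * (q : S) * c := fun i => by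
          induction i with
          | zero => exact ⟨0, by simp⟩
          | succ i ih =>
            obtain ⟨c, hc⟩ := ih
            refine ⟨c + c * ((q : S) * ((m : S) * g)) + (i : S) * ((m : S) * g) ^ 2, ?_⟩
            rw [pow_succ, hc]
            push_cast
            ring
        choose c hc using hdvd
        obtain ⟨r, hr⟩ : q ∣ ∑ i ∈ Finset.range q, i := by
          obtain ⟨a, ha⟩ : Odd q := Nat.odd_iff.2 hodd
          refine ⟨a, ?_⟩
          rw [Finset.sum_range_id, ha, show 2 * a + 1 - 1 = 2 * a by omega, ← mul_assoc, mul_comm _ 2, mul_assoc,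
            Nat.mul_div_cancel_left _ two_pos]
        refine ⟨(r : S) * ((m : S) * g) + ∑ i ∈ Finset.range q, c i, ?_⟩
        simp only [hc, Finset.sum_add_distrib, ← Finset.mul_sum, ← Finset.sum_mul, Finset.sum_const, Finset.card_range,
          nsmul_eq_mul]
        rw [show ∑ i ∈ Finset.range q, (i : S) = (q : S) * (r : S) by rw [← Nat.cast_sum, hr, Nat.cast_mul]]
        push_cast
        ring
      rw [hc] at hF
      refine hD q f (-c) hp (sub_eq_zero.1 (hT q _ hp.ne_zero ?_))
      linear_combination hF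
  · push Not at hall
    obtain ⟨q, hq, hqn, hne⟩ := hall
    obtain ⟨d, hd⟩ : ∃ d : S, ∑ i ∈ Finset.range p, (1 + (n : S) * g) ^ i = (p : S) + (n : S) * d := by
      have hdvd : ∀ i : ℕ, ∃ c : S, (1 + (n : S) * g) ^ i = 1 + (n : S) * c := fun i => by
        induction i with
        | zero => exact ⟨0, by simp⟩
        | succ i ih => obtain ⟨c, hc⟩ := ih; exact ⟨c + g + (n : S) * g * c, by rw [pow_succ, hc]; ring⟩
      choose c hc using hdvd
      refine ⟨∑ i ∈ Finset.range p, c i, ?_⟩
      simp only [hc, Finset.sum_add_distrib, Finset.sum_const, Finset.card_range, nsmul_eq_mul, mul_one,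
        ← Finset.mul_sum]
    rw [hd] at hF
    obtain ⟨r, rfl⟩ := hqn
    have hco : Nat.Coprime p q := (Nat.coprime_primes hp hq).2 (Ne.symm hne)
    obtain ⟨a, b, hab⟩ := Nat.Coprime.isCoprime hco
    refine hD q f ((b : S) - (a : S) * ((r : S) * d)) hq ?_
    have hab' : (a : S) * (p : S) + (b : S) * (q : S) = 1 := by exact_mod_cast congrArg (Int.cast : ℤ → S) hab
    push_cast at hF
    linear_combination f * hab'.symm + (a : S) * hF

theorem eq_zero_of_cyclotomic {n d : ℕ} (hT : NoTor S) (hD : NoDiv S) (hn : 2 ≤ n) (hd : 1 < d)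
    (hbad : ¬ (n = 2 ∧ d = 2)) {f g : S} (hF : f * aeval (1 + (n : S) * g) (cyclotomic d ℤ) = 0) : f = 0 := by
  by_cases hpp : ∃ p a : ℕ, p.Prime ∧ p ^ (a + 1) = d
  · obtain ⟨p, a, hp, rfl⟩ := hpp
    haveI := Fact.mk hp
    have hpw : ∀ i : ℕ, ∃ c : S, (1 + (n : S) * g) ^ i = 1 + (n : S) * c := fun i => by
      induction i with
      | zero => exact ⟨0, by simp⟩
      | succ i ih => obtain ⟨c, hc⟩ := ih; exact ⟨c + g + (n : S) * g * c, by rw [pow_succ, hc]; ring⟩
    by_cases h22 : 3 ≤ p ∨ 3 ≤ n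
    · obtain ⟨c, hc⟩ := hpw (p ^ a)
      rw [cyclotomic_prime_pow_eq_geom_sum hp, map_sum] at hF
      simp only [map_pow, aeval_X, hc] at hF
      exact eq_zero_of_prime_dvd_two hT hD hn hp hF h22
    · obtain ⟨rfl, rfl⟩ : p = 2 ∧ n = 2 := ⟨by have := hp.two_le; omega, by omega⟩
      obtain ⟨b, rfl⟩ : ∃ b, a = b + 1 := ⟨a - 1, by
        have : a ≠ 0 := fun h => hbad ⟨rfl, by rw [h]; norm_num⟩
        omega⟩
      obtain ⟨c, hc⟩ := hpw (2 ^ b)
      rw [cyclotomic_prime_pow_eq_geom_sum hp] at hF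
      simp only [Finset.sum_range_succ, Finset.sum_range_zero, zero_add, pow_zero, pow_one, map_add, map_one, map_pow,
        aeval_X] at hF
      rw [pow_succ 2 b, pow_mul, hc] at hF
      refine hD 2 f (-(c + c * c)) hp (sub_eq_zero.1 (hT 2 _ two_ne_zero ?_))
      push_cast at hF ⊢
      linear_combination hF
  · have h1 : (cyclotomic d ℤ).eval 1 = 1 := eval_one_cyclotomic_not_prime_pow fun {p} hp k hk => by
      rcases k with _ | k
      · simp at hk; omega
      · exact hpp ⟨p, k, hp, hk⟩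
    obtain ⟨Q, hQ⟩ := X_sub_C_dvd_sub_C_eval (p := cyclotomic d ℤ) (a := 1)
    rw [h1, sub_eq_iff_eq_add] at hQ
    obtain ⟨q, hq, hqn⟩ := Nat.exists_prime_and_dvd (n := n) (by omega)
    refine eq_zero_of_dvd hD hq hqn (h := -(g * aeval (1 + (n : S) * g) Q)) ?_
    rw [hQ] at hF
    simp only [map_add, map_mul, map_sub, aeval_X, map_one] at hF
    linear_combination hF

/-- **Serre's lemma.** -/
theorem serre_ring {n N : ℕ} (hT : NoTor S) (hD : NoDiv S) (hn : 2 ≤ n) (hN : 0 < N) (g : S)
    (he : (1 + (n : S) * g) ^ N = 1) :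
    (3 ≤ n → 1 + (n : S) * g = 1) ∧ (1 + (n : S) * g) * (1 + (n : S) * g) = 1 := by
  classical
  set e := 1 + (n : S) * g
  have hprod : ∏ d ∈ N.divisors, aeval e (cyclotomic d ℤ) = 0 := by
    rw [← map_prod, prod_cyclotomic_eq_X_pow_sub_one hN]
    simp [he]
  have key : ∀ s : Finset ℕ, (∀ d ∈ s, 0 < d) → ∀ f : S, f * ∏ d ∈ s, aeval e (cyclotomic d ℤ) = 0 →
      f * ∏ d ∈ s.filter (fun d => d = 1 ∨ (n = 2 ∧ d = 2)), aeval e (cyclotomic d ℤ) = 0 := by
    intro s
    induction s using Finset.induction with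
    | empty => intro _ f hf; simpa using hf
    | @insert d s hd ih =>
      intro hs f hf
      rw [Finset.prod_insert hd, ← mul_assoc] at hf
      have h1 := ih (fun x hx => hs x (Finset.mem_insert_of_mem hx)) _ hf
      rw [Finset.filter_insert]
      split_ifs with hgood
      · rw [Finset.prod_insert (fun h => hd (Finset.mem_filter.1 h).1)]
        linear_combination h1
      · refine eq_zero_of_cyclotomic hT hD hn (d := d) ?_ (fun h => hgood (Or.inr h)) (g := g) ?_
        · have := hs d (Finset.mem_insert_self d s)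
          rcases Nat.lt_or_ge 1 d with h | h
          · exact h
          · exact absurd (Or.inl (by omega)) hgood
        · linear_combination h1
  have h1 := key _ (fun d hd => Nat.pos_of_mem_divisors hd) 1 (by rw [hprod, mul_zero])
  rw [one_mul] at h1
  constructor
  · intro h3
    have hsub : N.divisors.filter (fun d => d = 1 ∨ (n = 2 ∧ d = 2)) ⊆ {1} := fun d hd => by
      rcases (Finset.mem_filter.1 hd).2 with h | h
      · simp [h]
      · omega
    have h2 := Finset.prod_dvd_prod_of_subset _ _ (fun d => aeval e (cyclotomic d ℤ)) hsub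
    rw [h1, zero_dvd_iff] at h2
    simpa [sub_eq_zero] using h2
  · have hsub : N.divisors.filter (fun d => d = 1 ∨ (n = 2 ∧ d = 2)) ⊆ {1, 2} := fun d hd => by
      rcases (Finset.mem_filter.1 hd).2 with h | h <;> simp [h]
    have h2 := Finset.prod_dvd_prod_of_subset _ _ (fun d => aeval e (cyclotomic d ℤ)) hsub
    rw [h1, zero_dvd_iff] at h2
    simp only [Finset.prod_insert (show (1 : ℕ) ∉ ({2} : Finset ℕ) by simp), Finset.prod_singleton,
      cyclotomic_one, cyclotomic_two, map_add, map_sub, aeval_X, map_one] at h2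
    linear_combination h2

end Groth.Agent.AutFinOrd
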