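import Groth.Agent.Chev.LinSection
import Groth.Agent.Chev.MaxTori
import Groth.Agent.Chev.TorusCommMax
import Groth.Agent.Chev.Exponent
import Groth.Agent.Chev.Complement
import Groth.Agent.Chev.SemiAbelian

/-!
Over an algebraically closed field a connected commutative group without additive subgroup is semi-abelian.
-/

set_option autoImplicit false
set_option linter.style.haveILetI false
set_option linter.unusedSectionVars false
set_option backward.isDefEq.respectTransparency false
set_option maxHeartbeats 1000000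
set_option synthInstance.maxHeartbeats 400000

universe u

open CategoryTheory Limits MonoidalCategory CartesianMonoidalCategory MonObj GrpObj AlgebraicGeometry
open AlgGrp
open scoped CategoryTheory.Obj

noncomputable section

namespace Groth.Agent.AutFinOrd

variable {k : Type u} [Field k]

/-- No closed additive subgroup. -/
def NoGaSub (G : Over (Spec (CommRingCat.of k))) [GrpObj G] : Prop :=
  ∀ (j : Red.Ga (Spec (CommRingCat.of k)) ⟶ G), IsMonHom j → IsClosedImmersion j.left → False

variable [IsAlgClosed k]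

theorem isTorus_of_noGa {L : Over (Spec (CommRingCat.of k))} [GrpObj L] [IsCommMonObj L] [IsAffine L.left]
    [Smooth L.hom] [ConnectedSpace L.left] (hL : NoGaSub L) : Red.IsTorus L := by
  haveI : IsAffineHom L.hom := isAffineHom_of_isAffine L.hom
  haveI : QuasiCompact L.hom := inferInstance
  obtain ⟨T, B, hT, hB, t, b, htm, htc, hb, hmax, -⟩ := Chev.Borel.exists_maxTorus L
  haveI := htm; haveI := htc; haveI := hb.1; haveI := hb.2.1
  let j := t ≫ b
  haveI : IsClosedImmersion j.left := inferInstanceAs (IsClosedImmersion (t.left ≫ b.left))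
  have hTt : Red.IsTorus T := hmax.2.2.1
  haveI := Chev.smooth_of_isTorus hTt
  haveI := Chev.connectedSpace_of_isTorus hTt
  haveI := Chev.isAffine_of_isTorus hTt
  haveI : QuasiCompact T.hom := haveI := isAffineHom_of_isAffine T.hom; inferInstance
  obtain ⟨r, hr, hjr⟩ := Chev.LinSection.exists_retraction hTt j
  haveI := hr
  haveI : Mono j := GrpField.SchImg.mono_of_isClosedImmersion j
  let f : L ⟶ L := 𝟙 L * (r ≫ j)⁻¹
  haveI : IsMonHom f := WittGrp.isMonHom_of_comp_mul f
    (by rw [MonObj.comp_mul, GrpObj.comp_inv, Category.comp_id, MonObj.one_comp, inv_one, _root_.mul_one])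
    fun T' a b => by
      letI : CommGroup (T' ⟶ L) := Hom.commGroup
      show (a * b) ≫ (𝟙 L * (r ≫ j)⁻¹) = (a ≫ (𝟙 L * (r ≫ j)⁻¹)) * (b ≫ (𝟙 L * (r ≫ j)⁻¹))
      simp only [MonObj.comp_mul, GrpObj.comp_inv, Category.comp_id]
      rw [MonObj.mul_comp a b (r ≫ j), _root_.mul_inv]
      exact mul_mul_mul_comm a b _ _
  have hfr : f ≫ r = 1 := by
    rw [MonObj.mul_comp, GrpObj.inv_comp, Category.id_comp, Category.assoc, hjr, Category.comp_id, mul_inv_cancel]
  obtain ⟨U, hU, ii, g, hiim, hgm, hiic, hgs, hUs, hUq, hUc, hg⟩ := Chev.exists_image_smooth f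
  haveI := hiim; haveI := hgm; haveI := hiic; haveI := hgs; haveI := hUs; haveI := hUc
  haveI : Mono ii := GrpField.SchImg.mono_of_isClosedImmersion ii
  haveI : IsAffine U.left := isAffine_of_isAffineHom ii.left
  haveI : IsReduced U.left := Chev.isReduced_of_smooth' U
  haveI : Flat g.left := GrpField.flat_of_surjective_reduced g
  haveI : Epi g := AVQuot.epi_of_covering g
  have hUr : ii ≫ r = 1 := by rw [← cancel_epi g, ← Category.assoc, hg, hfr, MonObj.comp_one]
  haveI : IsCommMonObj U := ⟨by
    rw [show μ[U] = fst U U * snd U U from Eq.symm (by rw [Hom.mul_def, lift_fst_snd, Category.id_comp]),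
      MonObj.comp_mul, braiding_hom_fst, braiding_hom_snd, ← cancel_mono ii, MonObj.mul_comp, MonObj.mul_comp]
    exact mul_comm (G := _) _ _⟩
  have hno : Red.HasNoSubtorus k U := by
    intro T' _ j' _ _ hT'
    haveI := Chev.smooth_of_isTorus hT'
    haveI := Chev.connectedSpace_of_isTorus hT'
    haveI := Chev.isAffine_of_isTorus hT'
    haveI : QuasiCompact T'.hom := haveI := isAffineHom_of_isAffine T'.hom; inferInstance
    let m := (j ⊗ₘ (j' ≫ ii)) ≫ μ[L]
    haveI : IsMonHom m := Chev.isMonHom_tensor_mul j (j' ≫ ii) fun _ _ _ => mul_comm _ _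
    have hTT := Chev.Borel.isTorus_tensor hTt hT'
    haveI := Chev.smooth_of_isTorus hTT
    haveI := Chev.connectedSpace_of_isTorus hTT
    haveI := Chev.isAffine_of_isTorus hTT
    haveI : QuasiCompact (T ⊗ T').hom := haveI := isAffineHom_of_isAffine (T ⊗ T').hom; inferInstance
    obtain ⟨P, hP, p, q, hpm, hqm, hpc, hqs, hPs, hPq, hPc, hpq⟩ := Chev.exists_image_smooth m
    haveI := hpm; haveI := hqm; haveI := hpc; haveI := hqs; haveI := hPs; haveI := hPq
    haveI : Mono p := GrpField.SchImg.mono_of_isClosedImmersion p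
    have hPt : Red.IsTorus P := Chev.isTorus_of_surjective hTT q
    haveI : IsIso (lift (𝟙 T) (1 : T ⟶ T') ≫ q) := hmax.2.2.2 P p _ hPt (by
      rw [Category.assoc, hpq, Chev.comp_tensor_mul, lift_fst, lift_snd, Category.id_comp, MonObj.one_comp,
        _root_.mul_one])
    let w : T' ⟶ T := (lift (1 : T' ⟶ T) (𝟙 T') ≫ q) ≫ inv (lift (𝟙 T) (1 : T ⟶ T') ≫ q)
    have hw : w ≫ j = j' ≫ ii := by
      have e : (lift (𝟙 T) (1 : T ⟶ T') ≫ q) ≫ p = j := by
        rw [Category.assoc, hpq, Chev.comp_tensor_mul, lift_fst, lift_snd, Category.id_comp, MonObj.one_comp,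
          _root_.mul_one]
      calc w ≫ j = ((lift (1 : T' ⟶ T) (𝟙 T') ≫ q) ≫ inv (lift (𝟙 T) (1 : T ⟶ T') ≫ q)) ≫
            ((lift (𝟙 T) (1 : T ⟶ T') ≫ q) ≫ p) := by rw [e]
        _ = (lift (1 : T' ⟶ T) (𝟙 T') ≫ q) ≫ p := by rw [Category.assoc, IsIso.inv_hom_id_assoc]
        _ = j' ≫ ii := by rw [Category.assoc, hpq, Chev.comp_tensor_mul, lift_fst, lift_snd, Category.id_comp,
            MonObj.one_comp, _root_.one_mul]
    have hw1 : w = 1 := by
      rw [← Category.comp_id w, ← hjr, ← Category.assoc, hw, Category.assoc, hUr, MonObj.comp_one]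
    have hj1 : j' = 1 := by
      rw [← cancel_mono ii, MonObj.one_comp, ← hw, hw1, MonObj.one_comp]
    haveI : IsIso (toUnit T') := ⟨η[T'], by
      rw [← cancel_mono j', ← Hom.one_def, MonObj.one_comp, Category.id_comp, hj1], toUnit_unique _ _⟩
    show IsIso T'.hom
    exact inferInstanceAs (IsIso (toUnit T').left)
  by_cases hI : IsIso U.hom
  · haveI : IsIso (toUnit U).left := hI
    haveI : IsIso ((Over.forget _).map (toUnit U)) := ‹IsIso (toUnit U).left›
    haveI : IsIso (toUnit U) := isIso_of_reflects_iso _ (Over.forget _)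
    have hg1 : g = 1 := (cancel_mono (toUnit U)).1 (toUnit_unique _ _)
    have hrj : r ≫ j = 𝟙 L := by
      have h1 : f = 1 := by rw [← hg, hg1, MonObj.one_comp]
      exact (mul_inv_eq_one.1 h1).symm
    haveI : IsIso j := ⟨r, hjr, hrj⟩
    haveI : Surjective j.left := ⟨(inferInstanceAs (IsIso ((Over.forget _).map j)) : IsIso j.left) |> fun h =>
      haveI := h; j.left.surjective⟩
    exact Chev.isTorus_of_surjective hTt j
  · obtain ⟨i, him, hic⟩ := Chev.LinSection.exists_ga_sub U hno hI
    haveI := him; haveI := hic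
    exact (hL (i ≫ ii) inferInstance (inferInstanceAs (IsClosedImmersion (i.left ≫ ii.left)))).elim

/-- **A connected commutative group without additive subgroup is semi-abelian.** -/
theorem isSA_of_noGa {G : Over (Spec (CommRingCat.of k))} [GrpObj G] [IsCommMonObj G] [Smooth G.hom]
    [QuasiCompact G.hom] [ConnectedSpace G.left] (hG : NoGaSub G) : Chev.IsSA G := by
  obtain ⟨L, hL, l, Q, hQ, q, hlm, hlc, hla, hls, hlcon, -, hqm, hqs, hqf, hk, hQp, hQs, hQc⟩ := Chev.exists_structure G
  haveI := hlm; haveI := hlc; haveI := hla; haveI := hls; haveI := hlcon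
  haveI : Mono l := GrpField.SchImg.mono_of_isClosedImmersion l
  haveI : IsCommMonObj L := ⟨by
    rw [show μ[L] = fst L L * snd L L from Eq.symm (by rw [Hom.mul_def, lift_fst_snd, Category.id_comp]),
      MonObj.comp_mul, braiding_hom_fst, braiding_hom_snd, ← cancel_mono l, MonObj.mul_comp, MonObj.mul_comp]
    exact mul_comm (G := _) _ _⟩
  have ht : Red.IsTorus L := isTorus_of_noGa fun j hj hjc => hG (j ≫ l)
    (haveI := hj; inferInstance) (haveI := hjc; inferInstanceAs (IsClosedImmersion (j.left ≫ l.left)))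
  exact ⟨L, hL, l, Q, hQ, q, hlm, hlc, ht, hqm, hqs, hqf, hk, hQp, hQs, hQc⟩

end Groth.Agent.AutFinOrd
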