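import Groth.Agent.AutFinOrd.NoGa
import Groth.Agent.AutFinOrd.Algebra
import Groth.Agent.Chev.TorsionFinite
import Groth.Agent.Chev.MaxTorusExt
import Groth.Agent.Chev.LevelDesc
import Groth.Agent.AdjRep.KerObj
import Groth.Prelude.Def_EndRing
import Groth.Prelude.Def_SGA7IX

/-!
Endomorphisms of commutative groups of unipotent rank zero.
-/

set_option autoImplicit false
set_option linter.style.haveILetI false
set_option linter.unusedSectionVars false
set_option backward.isDefEq.respectTransparency false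
set_option maxHeartbeats 1000000
set_option synthInstance.maxHeartbeats 400000

universe u

open CategoryTheory Limits MonoidalCategory CartesianMonoidalCategory MonObj GrpObj AlgebraicGeometry
open AlgGrp EndAV
open scoped CategoryTheory.Obj

noncomputable section

namespace Groth.Agent.AutFinOrd

variable {k : Type u} [Field k] {G : Over (Spec (CommRingCat.of k))} [GrpObj G] [IsCommMonObj G] [Smooth G.hom]
  [ConnectedSpace G.left]

theorem quasiCompact_hom (G : Over (Spec (CommRingCat.of k))) [GrpObj G] [Smooth G.hom] [ConnectedSpace G.left] :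
    QuasiCompact G.hom := by
  haveI := GrpField.geometricallyIrreducible_of_connected G
  exact GrpField.quasiCompact_of_irreducible G

theorem bc_pow {S S' : Scheme.{u}} (w : S' ⟶ S) (H : Over S) [GrpObj H] :
    ∀ m : ℕ, (Over.pullback w).map (𝟙 H ^ m) = 𝟙 ((Over.pullback w).obj H) ^ m := by
  intro m
  induction m with
  | zero =>
    rw [pow_zero, pow_zero]
    have h := Functor.map_mul (Over.pullback w) (1 : H ⟶ H) 1
    rw [_root_.mul_one, left_eq_mul] at h
    exact h
  | succ m ih => rw [pow_succ, pow_succ, Functor.map_mul, ih, CategoryTheory.Functor.map_id]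

theorem connectedSpace_bc {L : Type u} [Field L] (w : Spec (CommRingCat.of L) ⟶ Spec (CommRingCat.of k))
    (H : Over (Spec (CommRingCat.of k))) [GrpObj H] [LocallyOfFiniteType H.hom] [ConnectedSpace H.left] :
    ConnectedSpace ((Over.pullback w).obj H).left := by
  haveI := GrpField.geometricallyIrreducible_of_connected H
  haveI : GeometricallyIrreducible ((Over.pullback w).obj H).hom :=
    inferInstanceAs (GeometricallyIrreducible (pullback.snd H.hom w))
  haveI : IrreducibleSpace ((Over.pullback w).obj H).left :=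
    GeometricallyIrreducible.irreducibleSpace_of_subsingleton ((Over.pullback w).obj H).hom
  infer_instance

variable (k) in
/-- An algebraically closed field over which the group is semi-abelian. -/
theorem exists_isSA (hG : SGA7.FibresUnipotentRankZero G) :
    ∃ (K : Type u) (_ : Field K) (_ : IsAlgClosed K) (w : Spec (CommRingCat.of K) ⟶ Spec (CommRingCat.of k)),
      Chev.IsSA ((Over.pullback w).obj G) := by
  haveI := quasiCompact_hom G
  let s : Spec (CommRingCat.of k) := IsLocalRing.closedPoint k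
  let w := Red.geomPt s
  haveI : Smooth ((Over.pullback w).obj G).hom := inferInstanceAs (Smooth (pullback.snd G.hom w))
  haveI : QuasiCompact ((Over.pullback w).obj G).hom := inferInstanceAs (QuasiCompact (pullback.snd G.hom w))
  haveI : ConnectedSpace ((Over.pullback w).obj G).left := connectedSpace_bc w G
  haveI : IsCommMonObj ((Over.pullback w).obj G) := inferInstance
  exact ⟨_, inferInstance, inferInstance, w, isSA_of_noGa fun j hj hjc => hG s j hj hjc⟩

variable (hG : SGA7.FibresUnipotentRankZero G)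

include hG in
theorem surjective_pow {m : ℕ} (hm : 0 < m) : Surjective (𝟙 G ^ m).left := by
  haveI := quasiCompact_hom G
  obtain ⟨K, _, _, w, hSA⟩ := exists_isSA k hG
  let F := Over.pullback w
  haveI : Smooth (F.obj G).hom := inferInstanceAs (Smooth (pullback.snd G.hom w))
  haveI : QuasiCompact (F.obj G).hom := inferInstanceAs (QuasiCompact (pullback.snd G.hom w))
  haveI : ConnectedSpace (F.obj G).left := connectedSpace_bc w G
  haveI : IsCommMonObj (F.obj G) := inferInstanceAs (IsCommMonObj ((Over.pullback w).obj G))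
  haveI hsur : Surjective (F.map (𝟙 G ^ m)).left := by
    rw [bc_pow]; exact Chev.IsSA.surjective_pow hSA hm
  haveI : Surjective w := ⟨fun _ => ⟨IsLocalRing.closedPoint _, Subsingleton.elim (α := PrimeSpectrum k) _ _⟩⟩
  haveI : Surjective (pullback.fst G.hom w) := MorphismProperty.pullback_fst _ _ ‹_›
  haveI : Surjective (pullback.fst G.hom w ≫ (𝟙 G ^ m).left) := by
    haveI : Surjective ((F.map (𝟙 G ^ m)).left ≫ pullback.fst G.hom w) :=
      inferInstanceAs (Surjective (_ ≫ _))
    rwa [show (F.map (𝟙 G ^ m)).left ≫ pullback.fst G.hom w = pullback.fst G.hom w ≫ (𝟙 G ^ m).left from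
      pullback.lift_fst _ _ _] at this
  exact Surjective.of_comp (pullback.fst G.hom w) _

theorem toHom_natCast_mul (m : ℕ) (x : EndAV.End G) : ((m : EndAV.End G) * x).toHom = x.toHom ^ m := by
  rw [End.toHom_mul, End.toHom_natCast, MonObj.comp_pow, Category.comp_id]

include hG in
theorem noTor (m : ℕ) (x : EndAV.End G) (hm : m ≠ 0) (h : (m : EndAV.End G) * x = 0) : x = 0 := by
  haveI := quasiCompact_hom G
  haveI := surjective_pow hG (Nat.pos_of_ne_zero hm)
  haveI : IsReduced G.left := Chev.isReduced_of_smooth' G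
  haveI := Chev.isMonHom_pow G m
  haveI : IsSeparated G.hom := GrpField.isSeparated_hom G
  haveI : QuasiCompact (𝟙 G ^ m).left := by
    haveI : QuasiCompact ((𝟙 G ^ m).left ≫ G.hom) := by rw [Over.w]; infer_instance
    exact QuasiCompact.of_comp _ G.hom
  haveI : Flat (𝟙 G ^ m).left := GrpField.flat_of_surjective_reduced (𝟙 G ^ m)
  haveI : Epi (𝟙 G ^ m) := AVQuot.epi_of_covering _
  refine EndAV.End.ext ((cancel_epi (𝟙 G ^ m)).1 ?_)
  rw [MonObj.pow_comp, Category.id_comp, ← toHom_natCast_mul, h, End.toHom_zero, MonObj.comp_one]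

include hG in
/-- An endomorphism killing the `n`-torsion is divisible by `n`. -/
theorem exists_div {n : ℕ} (hn : 0 < n) (φ : EndAV.End G)
    (hφ : ∀ (T : Over (Spec (CommRingCat.of k))) (x : T ⟶ G), x ^ n = 1 → x ≫ φ.toHom = 1) :
    ∃ χ : EndAV.End G, φ = (n : EndAV.End G) * χ := by
  haveI := quasiCompact_hom G
  haveI := surjective_pow hG hn
  haveI : IsReduced G.left := Chev.isReduced_of_smooth' G
  haveI : IsSeparated G.hom := GrpField.isSeparated_hom G
  haveI := Chev.isMonHom_pow G n
  haveI : QuasiCompact (𝟙 G ^ n).left := by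
    haveI : QuasiCompact ((𝟙 G ^ n).left ≫ G.hom) := by rw [Over.w]; infer_instance
    exact QuasiCompact.of_comp _ G.hom
  haveI : Flat (𝟙 G ^ n).left := GrpField.flat_of_surjective_reduced (𝟙 G ^ n)
  haveI : LocallyOfFinitePresentation (𝟙 G ^ n).left := by
    haveI : LocallyOfFiniteType ((𝟙 G ^ n).left ≫ G.hom) := by rw [Over.w]; infer_instance
    haveI : LocallyOfFiniteType (𝟙 G ^ n).left := locallyOfFiniteType_of_comp _ G.hom
    haveI : IsLocallyNoetherian G.left := LocallyOfFiniteType.isLocallyNoetherian G.hom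
    exact LocallyOfFinitePresentation.iff_locallyOfFiniteType.2 inferInstance
  obtain ⟨N, hN, i, him, hic, -, hker⟩ := AdjRep.exists_kernel (𝟙 G ^ n)
  have hi : i ^ n = 1 := by
    have h := hker.w
    rw [MonObj.comp_pow, Category.comp_id] at h
    exact h.trans Hom.one_def.symm
  obtain ⟨d, hd⟩ := AdjRep.exists_desc i (𝟙 G ^ n) hker φ.toHom (hφ N i hi)
  haveI : IsMonHom ((𝟙 G ^ n) ≫ d) := by rw [hd]; infer_instance
  haveI := Chev.isMonHom_desc (𝟙 G ^ n) d
  refine ⟨End.of d, EndAV.End.ext ?_⟩
  rw [toHom_natCast_mul, End.toHom_of, ← hd, MonObj.pow_comp, Category.id_comp]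

include hG in
theorem noDiv {q : ℕ} (hq : q.Prime) (f h : EndAV.End G) (hc : f * h = h * f)
    (hf : f = (q : EndAV.End G) * (f * h)) : f = 0 := by
  haveI := quasiCompact_hom G
  haveI : IsSeparated G.hom := GrpField.isSeparated_hom G
  obtain ⟨I, hI, ii, g, hiim, hgm, hiic, hgs, hIs, hIq, hIc, hg⟩ := Chev.exists_image_smooth f.toHom
  haveI := hiim; haveI := hgm; haveI := hiic; haveI := hgs; haveI := hIs; haveI := hIq; haveI := hIc
  haveI : Mono ii := GrpField.SchImg.mono_of_isClosedImmersion ii
  haveI : IsReduced I.left := Chev.isReduced_of_smooth' I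
  haveI : IsSeparated I.hom := GrpField.isSeparated_hom I
  haveI : QuasiCompact g.left := by
    haveI : QuasiCompact (g.left ≫ I.hom) := by rw [Over.w]; infer_instance
    exact QuasiCompact.of_comp _ I.hom
  haveI : Flat g.left := GrpField.flat_of_surjective_reduced g
  haveI : Epi g := AVQuot.epi_of_covering g
  haveI : IsSchemeTheoreticallyDominant g.left := .of_isDominant g.left
  have hfh : g ≫ ii ≫ h.toHom = (h.toHom ≫ g) ≫ ii := by
    rw [← Category.assoc, hg, Category.assoc, hg, ← End.toHom_mul, ← End.toHom_mul, hc]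
  obtain ⟨ψ₀, hψ₀⟩ := Chev.exists_factor_of_schDom ii.left (ii ≫ h.toHom).left g.left (h.toHom ≫ g).left
    (by rw [← Over.comp_left, ← hfh]; rfl)
  let ψ : I ⟶ I := Over.homMk ψ₀ (by rw [← Over.w ii, ← Category.assoc, hψ₀]; exact (Over.w (ii ≫ h.toHom)).trans (Over.w ii).symm)
  have hψ : ψ ≫ ii = ii ≫ h.toHom := Over.OverMorphism.ext hψ₀
  haveI : IsMonHom (ψ ≫ ii) := by rw [hψ]; infer_instance
  haveI : IsMonHom ψ := Chev.isMonHom_of_comp ψ ii
  haveI : IsCommMonObj I := ⟨by
    rw [show μ[I] = fst I I * snd I I from Eq.symm (by rw [Hom.mul_def, lift_fst_snd, Category.id_comp]),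
      MonObj.comp_mul, braiding_hom_fst, braiding_hom_snd, ← cancel_mono ii, MonObj.mul_comp, MonObj.mul_comp]
    exact mul_comm (G := _) _ _⟩
  have hψq : ψ ^ q = 𝟙 I := by
    rw [← cancel_mono ii, MonObj.pow_comp, hψ, Category.id_comp, ← cancel_epi g, MonObj.comp_pow, ← Category.assoc,
      hg]
    conv_rhs => rw [hf, hc, toHom_natCast_mul, End.toHom_mul]
  haveI : IsIso (𝟙 I ^ q) := ⟨ψ, by rw [MonObj.pow_comp, Category.id_comp, hψq],
    by rw [MonObj.comp_pow, Category.comp_id, hψq]⟩
  obtain ⟨K, _, _, w, hSA⟩ := exists_isSA k hG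
  let F := Over.pullback w
  haveI : Smooth (F.obj G).hom := inferInstanceAs (Smooth (pullback.snd G.hom w))
  haveI : QuasiCompact (F.obj G).hom := inferInstanceAs (QuasiCompact (pullback.snd G.hom w))
  haveI : Smooth (F.obj I).hom := inferInstanceAs (Smooth (pullback.snd I.hom w))
  haveI : QuasiCompact (F.obj I).hom := inferInstanceAs (QuasiCompact (pullback.snd I.hom w))
  haveI : ConnectedSpace (F.obj I).left := connectedSpace_bc w I
  haveI : IsCommMonObj (F.obj I) := inferInstanceAs (IsCommMonObj ((Over.pullback w).obj I))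
  haveI : IsClosedImmersion (F.map ii).left :=
    MorphismProperty.baseChange_map (P := @IsClosedImmersion) w ii ‹_›
  have hSI := Chev.isSA_of_subgroup hSA (F.map ii)
  haveI : IsIso (𝟙 (F.obj I) ^ q) := by rw [← bc_pow]; infer_instance
  haveI := Chev.isIso_eta_of_isIso_pow hSI hq.one_lt
  have h1 : F.map (𝟙 I) = F.map (1 : I ⟶ I) :=
    (Chev.eq_one_of_isIso_eta inferInstance _).trans (Chev.eq_one_of_isIso_eta inferInstance _).symm
  haveI : IsDominant w := ⟨Function.Surjective.denseRange fun _ =>
    ⟨IsLocalRing.closedPoint _, Subsingleton.elim (α := PrimeSpectrum k) _ _⟩⟩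
  have h2 : 𝟙 I = 1 := Chev.MaxTorusExt.eq_of_bc_eq w _ _ h1
  refine EndAV.End.ext ?_
  rw [← hg, ← Category.comp_id g, h2, MonObj.comp_one, MonObj.one_comp, End.toHom_zero]

include hG in
/-- **Serre's lemma for groups of unipotent rank zero.** -/
theorem serre {n N : ℕ} (hn : 2 ≤ n) (hN : 0 < N) (g : EndAV.End G) (he : (1 + (n : EndAV.End G) * g) ^ N = 1) :
    (3 ≤ n → 1 + (n : EndAV.End G) * g = 1) ∧
      (1 + (n : EndAV.End G) * g) * (1 + (n : EndAV.End G) * g) = 1 := by
  let φ : Polynomial ℤ →+* EndAV.End G := (Polynomial.aeval g).toRingHom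
  let ι₀ := RingHom.kerLift φ
  have hι : Function.Injective ι₀ := RingHom.kerLift_injective φ
  let x : Polynomial ℤ ⧸ RingHom.ker φ := Ideal.Quotient.mk _ Polynomial.X
  have hx : ι₀ x = g := (RingHom.kerLift_mk φ Polynomial.X).trans (Polynomial.aeval_X g)
  have hT : NoTor (Polynomial ℤ ⧸ RingHom.ker φ) := fun m y hm hy => hι (by
    rw [map_zero]
    exact noTor hG m _ hm (by rw [← map_natCast ι₀, ← map_mul, hy, map_zero]))
  have hD : NoDiv (Polynomial ℤ ⧸ RingHom.ker φ) := fun q a b hq hab => hι (by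
    rw [map_zero]
    refine noDiv hG hq (ι₀ a) (ι₀ b) (by rw [← map_mul, ← map_mul, mul_comm]) ?_
    rw [← map_natCast ι₀, ← map_mul, ← map_mul, ← hab])
  have heq : ι₀ (1 + (n : Polynomial ℤ ⧸ RingHom.ker φ) * x) = 1 + (n : EndAV.End G) * g := by
    rw [map_add, map_one, map_mul, map_natCast, hx]
  obtain ⟨h1, h2⟩ := serre_ring (n := n) (N := N) hT hD hn hN x (hι (by rw [map_pow, heq, he, map_one]))
  refine ⟨fun h3 => ?_, ?_⟩
  · rw [← heq, h1 h3, map_one]
  · rw [← heq, ← map_mul, h2, map_one]

end Groth.Agent.AutFinOrd
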