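import Groth.Agent.AutFinOrd.Setting

/-!
Automorphisms as elements of the endomorphism ring, and splitting along idempotents.
-/

set_option autoImplicit false
set_option linter.style.haveILetI false
set_option linter.unusedSectionVars false
set_option backward.isDefEq.respectTransparency false
set_option maxHeartbeats 1000000
set_option synthInstance.maxHeartbeats 400000

universe u

open CategoryTheory Limits MonoidalCategory CartesianMonoidalCategory MonObj GrpObj AlgebraicGeometry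
open EndAV

noncomputable section

namespace Groth.Agent.AutFinOrd

variable {k : Type u} [Field k] {G : Over (Spec (CommRingCat.of k))} [GrpObj G] [IsCommMonObj G] [Smooth G.hom]
  [ConnectedSpace G.left] (u : Aut G) [IsMonHom u.hom]

/-- An automorphism as an endomorphism. -/
abbrev endOf : EndAV.End G := End.of u.hom

theorem toHom_endOf_pow : ∀ m : ℕ, ((endOf u) ^ m).toHom = (u ^ m).hom := by
  intro m
  induction m with
  | zero => rw [pow_zero, pow_zero]; rfl
  | succ m ih => rw [pow_succ, pow_succ, End.toHom_mul, ih]; rfl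

theorem endOf_pow_eq_one {m : ℕ} (h : u ^ m = 1) : (endOf u) ^ m = 1 :=
  EndAV.End.ext (by rw [toHom_endOf_pow, h, End.toHom_one]; rfl)

theorem endOf_pow_iff {m : ℕ} : (endOf u) ^ m = 1 ↔ u ^ m = 1 :=
  ⟨fun h => Iso.ext (by rw [← toHom_endOf_pow, h, End.toHom_one]; rfl), endOf_pow_eq_one u⟩

theorem comp_sub_one {T : Over (Spec (CommRingCat.of k))} (x : T ⟶ G) :
    x ≫ (endOf u - 1).toHom = (x ≫ u.hom) * x⁻¹ := by
  rw [End.toHom_sub, div_eq_mul_inv, MonObj.comp_mul, GrpObj.comp_inv, End.toHom_of, End.toHom_one, Category.comp_id]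

/-- An idempotent endomorphism splits the group. -/
theorem exists_split (p : EndAV.End G) (hp : p * p = p) :
    ∃ (G₁ G₂ : Over (Spec (CommRingCat.of k))) (_ : GrpObj G₁) (_ : GrpObj G₂) (i₁ : G₁ ⟶ G) (i₂ : G₂ ⟶ G),
      IsMonHom i₁ ∧ IsMonHom i₂ ∧ IsClosedImmersion i₁.left ∧ IsClosedImmersion i₂.left ∧
      AlgGrp.IsKernel i₁ (𝟙 G * p.toHom⁻¹) ∧ AlgGrp.IsKernel i₂ p.toHom ∧
      ConnectedSpace ↥G₁.left ∧ ConnectedSpace ↥G₂.left ∧ IsIso ((i₁ ⊗ₘ i₂) ≫ μ[G]) := by
  have he : (1 - p).toHom = 𝟙 G * p.toHom⁻¹ := by rw [End.toHom_sub, div_eq_mul_inv, End.toHom_one]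
  haveI : IsMonHom (𝟙 G * p.toHom⁻¹) := by rw [← he]; infer_instance
  obtain ⟨G₁, hG₁, i₁, h1m, h1c, -, h1k⟩ := AdjRep.exists_kernel (𝟙 G * p.toHom⁻¹)
  obtain ⟨G₂, hG₂, i₂, h2m, h2c, -, h2k⟩ := AdjRep.exists_kernel p.toHom
  haveI := h1m; haveI := h1c; haveI := h2m; haveI := h2c
  haveI : Mono i₁ := GrpField.SchImg.mono_of_isClosedImmersion i₁
  haveI : Mono i₂ := GrpField.SchImg.mono_of_isClosedImmersion i₂
  have hpq : (1 - p) * p = 0 := by rw [sub_mul, _root_.one_mul, hp, sub_self]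
  have hqp : p * (1 - p) = 0 := by rw [mul_sub, _root_.mul_one, hp, sub_self]
  obtain ⟨π₁, hπ₁, -⟩ := h1k.exists_lift p.toHom (toUnit G) (by
    rw [← he, ← End.toHom_mul, hpq, End.toHom_zero, Hom.one_def])
  obtain ⟨π₂, hπ₂, -⟩ := h2k.exists_lift (1 - p).toHom (toUnit G) (by
    rw [← End.toHom_mul, hqp, End.toHom_zero, Hom.one_def])
  have hi1 : i₁ ≫ p.toHom = i₁ := by
    have h := h1k.w.trans Hom.one_def.symm
    rw [MonObj.comp_mul, GrpObj.comp_inv, Category.comp_id, mul_inv_eq_one] at h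
    exact h.symm
  have hi1' : i₁ ≫ (1 - p).toHom = 1 := by rw [he]; exact h1k.w.trans Hom.one_def.symm
  have hi2 : i₂ ≫ p.toHom = 1 := h2k.w.trans Hom.one_def.symm
  have hi2' : i₂ ≫ (1 - p).toHom = i₂ := by
    rw [he, MonObj.comp_mul, GrpObj.comp_inv, Category.comp_id, hi2, inv_one, _root_.mul_one]
  have r1 : i₁ ≫ π₁ = 𝟙 G₁ := by rw [← cancel_mono i₁, Category.assoc, hπ₁, Category.id_comp, hi1]
  have r2 : i₂ ≫ π₂ = 𝟙 G₂ := by rw [← cancel_mono i₂, Category.assoc, hπ₂, Category.id_comp, hi2']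
  have hs1 : Function.Surjective π₁.left := fun y => ⟨i₁.left y, by
    rw [← Scheme.Hom.comp_apply, ← Over.comp_left, r1]; rfl⟩
  have hs2 : Function.Surjective π₂.left := fun y => ⟨i₂.left y, by
    rw [← Scheme.Hom.comp_apply, ← Over.comp_left, r2]; rfl⟩
  refine ⟨G₁, G₂, hG₁, hG₂, i₁, i₂, h1m, h2m, h1c, h2c, h1k, h2k, hs1.connectedSpace π₁.left.continuous,
    hs2.connectedSpace π₂.left.continuous, ⟨lift π₁ π₂, ?_, ?_⟩⟩
  · apply CartesianMonoidalCategory.hom_ext
    · rw [Category.assoc, lift_fst, Category.id_comp, ← cancel_mono i₁, Category.assoc, hπ₁,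
        Chev.comp_tensor_mul i₁ i₂ (𝟙 _) |> fun e => (Category.id_comp _).symm.trans e, MonObj.mul_comp]
      simp only [Category.id_comp, Category.assoc, hi1, hi2, MonObj.comp_one, _root_.mul_one]
    · rw [Category.assoc, lift_snd, Category.id_comp, ← cancel_mono i₂, Category.assoc, hπ₂,
        Chev.comp_tensor_mul i₁ i₂ (𝟙 _) |> fun e => (Category.id_comp _).symm.trans e, MonObj.mul_comp]
      simp only [Category.id_comp, Category.assoc, hi1', hi2', MonObj.comp_one, _root_.one_mul]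
  · rw [Chev.comp_tensor_mul, lift_fst, lift_snd, hπ₁, hπ₂, ← End.toHom_add, add_sub_cancel, End.toHom_one]

end Groth.Agent.AutFinOrd
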